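import Groth.Agent.LieNoTorus26.Conv
import Groth.Agent.HopfLib.SpPoints
import Groth.Agent.IsoTriv.SchemeSpec
import Groth.Agent.LieBr26.Model
import Groth.Prelude.Def_LieS
import Groth.Prelude.Def_Red

/-!
# The bracket of the Lie algebra of an affine group as a commutator in the convolution algebra
-/

set_option autoImplicit false
set_option linter.unusedSectionVars false
set_option backward.isDefEq.respectTransparency false
set_option backward.isDefEq.respectTransparency.types false
set_option maxHeartbeats 60000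
set_option synthInstance.maxHeartbeats 100000
set_option linter.style.haveILetI false

universe u

open CategoryTheory MonoidalCategory CartesianMonoidalCategory MonObj AlgebraicGeometry
open WithConv TensorProduct CoactBr Groth.Agent.HopfLib.SpPoints

noncomputable section

namespace Groth.Agent.LieNoTorus26

variable {k : Type u} [Field k]

/-- The structure map of `Spec k` over itself. -/
abbrev f₀ (k : Type u) [Field k] : Spec (CommRingCat.of k) ⟶ Spec (CommRingCat.of k) :=
  Spec.map (CommRingCat.ofHom (algebraMap k k))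

/-- The dual numbers as an affine object. -/
def I (k : Type u) [Field k] : sp k (DualNumber k) ≅ LieS.dpt k (f₀ k) := (LieS.dptIso (R := k) k).symm

theorem I_left : (I k).hom.left = 𝟙 (Spec (CommRingCat.of (DualNumber k))) := rfl

/-- The identity as a morphism over the base. -/
def idHom {X S : Scheme.{u}} {a b : X ⟶ S} (h : b = a) : Over.mk a ⟶ Over.mk b :=
  Over.homMk (𝟙 X) (by simp [h])

/-- The zero section through the parameter `0`. -/
theorem dmap_zero {B : Type u} [CommRing B] {S : Scheme.{u}} (f : Spec (CommRingCat.of B) ⟶ S) {C : Type u} [CommRing C]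
    (h : B →+* C) : LieBr26.dmap f h (0 : C) (mul_zero _) =
      (Over.homMk (Spec.map (CommRingCat.ofHom h)) rfl : LieBr26.cpt f h ⟶ LieS.pt B f) ≫ LieS.zeroSec B f := by
  refine Over.OverMorphism.ext ?_
  show Spec.map _ = Spec.map _ ≫ Spec.map _
  rw [LieS.specMap_comp]
  congr 2
  exact RingHom.ext fun x => by simp

/-- A morphism out of the dual numbers is `1` on the zero section as soon as it is so at the parameter `0`. -/
theorem zeroSec_comp_eq_one {B : Type u} [CommRing B] {S : Scheme.{u}} (f : Spec (CommRingCat.of B) ⟶ S) {G : Over S} [GrpObj G]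
    {C : Type u} [CommRing C] (g : B →+* C) [IsIso (CommRingCat.ofHom g)]
    (y : LieS.dpt B f ⟶ G) (hy : LieBr26.dmap f g (0 : C) (mul_zero _) ≫ y = 1) : LieS.zeroSec B f ≫ y = 1 := by
  rw [dmap_zero, Category.assoc] at hy
  let w : LieBr26.cpt f g ⟶ LieS.pt B f := Over.homMk (Spec.map (CommRingCat.ofHom g)) rfl
  haveI : IsIso ((Over.forget _).map w) := inferInstanceAs (IsIso (Spec.map (CommRingCat.ofHom g)))
  haveI : IsIso w := isIso_of_reflects_iso _ (Over.forget _)
  rw [← cancel_epi w, MonObj.comp_one]
  exact hy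

section Maps

variable (C : Type u) [CommRing C] [Algebra k C]

theorem algebraMap_f₀ :
    Spec.map (CommRingCat.ofHom (algebraMap k C)) ≫ f₀ k = Spec.map (CommRingCat.ofHom (algebraMap k C)) := by
  rw [f₀, LieS.specMap_comp, Algebra.algebraMap_self, RingHom.comp_id]

/-- An affine object mapped to the corresponding test object. -/
def J : sp k C ⟶ LieBr26.cpt (f₀ k) (algebraMap k C) :=
  (idHom (algebraMap_f₀ C) : Over.mk (Spec.map (CommRingCat.ofHom (algebraMap k C))) ⟶
    Over.mk (Spec.map (CommRingCat.ofHom (algebraMap k C)) ≫ f₀ k))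

theorem J_left : (J (k := k) C).left = 𝟙 (Spec (CommRingCat.of C)) := rfl

variable {C}

/-- The algebra map given by an element of square zero. -/
def dh (c : C) (hc : c * c = 0) : DualNumber k →ₐ[k] C :=
  AlgHom.mk (LieS.dualHom (algebraMap k C) c hc) fun r => by simp [TrivSqZeroExt.algebraMap_eq_inl']

theorem dh_apply (c : C) (hc : c * c = 0) (t : DualNumber k) :
    dh c hc t = algebraMap k C t.fst + algebraMap k C t.snd * c := rfl

instance isIso_J : IsIso (J (k := k) C) := by
  haveI : IsIso ((Over.forget _).map (J (k := k) C)) := by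
    show IsIso (J (k := k) C).left
    rw [J_left]
    exact IsIso.id _
  exact isIso_of_reflects_iso _ (Over.forget _)

theorem J_dmap (c : C) (hc : c * c = 0) :
    J C ≫ LieBr26.dmap (f₀ k) (algebraMap k C) c hc = pt (dh c hc) ≫ (I k).hom := by
  refine Over.OverMorphism.ext ?_
  rw [Over.comp_left, Over.comp_left, J_left, I_left, pt_left]
  exact (Category.id_comp _).trans (Category.comp_id _).symm

end Maps

variable {A : Type u} [CommRing A] [HopfAlgebra k A]

/-- A coefficient of an algebra map. -/
abbrev cf {K : Type u} [CommRing K] [Algebra k K] (p : K →ₗ[k] k) (P : A →ₐ[k] K) : WithConv (A →ₗ[k] k) :=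
  toConv (p ∘ₗ P.toLinearMap)

/-- The product of two points as algebra maps. -/
def mulA {K : Type u} [CommRing K] [Algebra k K] (P Q : A →ₐ[k] K) : A →ₐ[k] K :=
  (Algebra.TensorProduct.lift P Q fun _ _ => .all _ _).comp (Bialgebra.comulAlgHom k A)

theorem algOf_mul' {C : Type u} [CommRing C] [Algebra k C] (p q : sp k C ⟶ sp k A) :
    algOf (p * q) = mulA (algOf p) (algOf q) := algOf_mul p q

/-- The algebra map of a point with values in the dual numbers. -/
def alg (x : LieS.dpt k (f₀ k) ⟶ sp k A) : A →ₐ[k] DualNumber k := algOf ((I k).hom ≫ x)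

/-- The derivation of a point. -/
def der (x : LieS.dpt k (f₀ k) ⟶ sp k A) : WithConv (A →ₗ[k] k) := cf (TrivSqZeroExt.sndHom k k) (alg x)

/-- The point with parameter `c`. -/
theorem algOf_P {C : Type u} [CommRing C] [Algebra k C] (c : C) (hc : c * c = 0) (x : LieS.Lie (sp k A) k (f₀ k)) :
    algOf (J C ≫ LieBr26.P (f₀ k) (sp k A) (algebraMap k C) c hc x) = (dh c hc).comp (alg x.1) := by
  rw [LieBr26.P_apply, reassoc_of% J_dmap, algOf_pt_comp]
  rfl

theorem fst_alg (x : LieS.Lie (sp k A) k (f₀ k)) :
    (TrivSqZeroExt.fstHom k k k).comp (alg x.1) = Bialgebra.counitAlgHom k A := by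
  have h0 := algOf_P (0 : k) (mul_zero _) x
  rw [LieBr26.P_zero, MonObj.comp_one, one_eq_pt, algOf_pt] at h0
  refine AlgHom.ext fun a => ?_
  have h1 := DFunLike.congr_fun h0 a
  rw [show ((dh (0 : k) (mul_zero _)).comp (alg x.1)) a =
    algebraMap k k (alg x.1 a).fst + algebraMap k k (alg x.1 a).snd * 0 from rfl, mul_zero, add_zero] at h1
  exact h1.symm

theorem cf_fst (x : LieS.Lie (sp k A) k (f₀ k)) : cf (TrivSqZeroExt.fstHom k k k).toLinearMap (alg x.1) = 1 := by
  refine WithConv.ext (LinearMap.ext fun a => ?_)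
  show (TrivSqZeroExt.fstHom k k k) (alg x.1 a) = (1 : WithConv (A →ₗ[k] k)) a
  rw [LinearMap.convOne_apply]
  exact DFunLike.congr_fun (fst_alg x) a

/-- A bracket is the bracket of `LieBr26`. -/
theorem eq_br (x y z : LieS.Lie (sp k A) k (f₀ k)) (h : LieS.IsBracket (sp k A) k (f₀ k) x y z) :
    z = LieBr26.br (f₀ k) (sp k A) x y := by
  have h1 : LieS.mulMap k (f₀ k) ≫ z.1 = LieS.mulMap k (f₀ k) ≫ (LieBr26.br (f₀ k) (sp k A) x y).1 :=
    Eq.trans h (LieBr26.isBracket_br (f₀ k) (sp k A) x y).symm
  rw [← LieBr26.d2map_mulMap, Category.assoc, Category.assoc] at h1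
  haveI : IsIso ((Over.forget _).map (LieBr26.d2map (f₀ k))) := by
    show IsIso (LieBr26.d2map (f₀ k)).left
    rw [LieBr26.d2map_left]
    exact IsIso.id _
  haveI : IsIso (LieBr26.d2map (f₀ k)) := isIso_of_reflects_iso _ (Over.forget _)
  exact LieBr26.P_eAB_injective (f₀ k) (sp k A) ((cancel_epi (LieBr26.d2map (f₀ k))).1 h1)

/-- `ε ⊗ 1`. -/
abbrev e₁ (k : Type u) [Field k] : DualNumber k ⊗[k] DualNumber k := DualNumber.eps ⊗ₜ 1

/-- `1 ⊗ ε`. -/
abbrev e₂ (k : Type u) [Field k] : DualNumber k ⊗[k] DualNumber k := 1 ⊗ₜ DualNumber.eps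

theorem e₁_sq : e₁ k * e₁ k = 0 := by
  simp [Algebra.TensorProduct.tmul_mul_tmul, DualNumber.eps_mul_eps]

theorem e₂_sq : e₂ k * e₂ k = 0 := by
  simp [Algebra.TensorProduct.tmul_mul_tmul, DualNumber.eps_mul_eps]

/-- The coefficient of `ε ⊗ ε`. -/
def coef (k : Type u) [Field k] : DualNumber k ⊗[k] DualNumber k →ₗ[k] k :=
  LinearMap.mul' k k ∘ₗ TensorProduct.map (TrivSqZeroExt.sndHom k k) (TrivSqZeroExt.sndHom k k)

theorem dh_alg {C : Type u} [CommRing C] [Algebra k C] (c : C) (hc : c * c = 0) (x : LieS.Lie (sp k A) k (f₀ k)) (a : A) :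
    (dh c hc).comp (alg x.1) a = algebraMap k C (Coalgebra.counit (R := k) a) + algebraMap k C (der x.1 a) * c := by
  rw [AlgHom.comp_apply, dh_apply]
  congr 2
  exact DFunLike.congr_fun (fst_alg x) a

/-- The product of a point with parameter `c` and one with parameter `d`. -/
theorem mulA_two {C : Type u} [CommRing C] [Algebra k C] (c d : C) (P Q : A →ₐ[k] C) (f g : WithConv (A →ₗ[k] k))
    (hP : ∀ a, P a = algebraMap k C (Coalgebra.counit (R := k) a) + algebraMap k C (f a) * c)
    (hQ : ∀ a, Q a = algebraMap k C (Coalgebra.counit (R := k) a) + algebraMap k C (g a) * d) (a : A) :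
    mulA P Q a = algebraMap k C (Coalgebra.counit (R := k) a) + algebraMap k C (f a) * c + algebraMap k C (g a) * d +
      algebraMap k C ((f * g) a) * (c * d) := by
  have e : ((1 : WithConv (A →ₗ[k] k)) * 1) a = Coalgebra.counit (R := k) a := by
    rw [_root_.one_mul]; exact LinearMap.convOne_apply a
  have ef : (f * (1 : WithConv (A →ₗ[k] k))) a = f a := by rw [_root_.mul_one]
  have eg : ((1 : WithConv (A →ₗ[k] k)) * g) a = g a := by rw [_root_.one_mul]
  rw [← e, ← ef, ← eg]
  simp only [LinearMap.convMul_apply, mulA, AlgHom.comp_apply, Bialgebra.comulAlgHom_apply]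
  generalize Coalgebra.comul (R := k) a = t
  induction t using TensorProduct.induction_on with
  | zero => simp
  | add v w hv hw => simp only [map_add, hv, hw]; ring
  | tmul v w =>
    simp [hP, hQ, LinearMap.convOne_def]
    ring

/-- Composing with a point whose parameter is the product. -/
theorem mulA_three {C : Type u} [CommRing C] [Algebra k C] (c d e : C) (hec : e * c = 0) (hed : e * d = 0)
    (hee : e * e = 0) (P W : A →ₐ[k] C) (h f g m : WithConv (A →ₗ[k] k))
    (hP : ∀ a, P a = algebraMap k C (Coalgebra.counit (R := k) a) + algebraMap k C (h a) * e)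
    (hW : ∀ a, W a = algebraMap k C (Coalgebra.counit (R := k) a) + algebraMap k C (f a) * c + algebraMap k C (g a) * d +
      algebraMap k C (m a) * e) (a : A) :
    mulA P W a = algebraMap k C (Coalgebra.counit (R := k) a) + algebraMap k C (f a) * c + algebraMap k C (g a) * d +
      algebraMap k C ((h + m) a) * e := by
  have e0 : ((1 : WithConv (A →ₗ[k] k)) * 1) a = Coalgebra.counit (R := k) a := by
    rw [_root_.one_mul]; exact LinearMap.convOne_apply a
  have ef : ((1 : WithConv (A →ₗ[k] k)) * f) a = f a := by rw [_root_.one_mul]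
  have eg : ((1 : WithConv (A →ₗ[k] k)) * g) a = g a := by rw [_root_.one_mul]
  have eh : (h * (1 : WithConv (A →ₗ[k] k))) a + ((1 : WithConv (A →ₗ[k] k)) * m) a = (h + m) a := by
    rw [_root_.mul_one, _root_.one_mul]; rfl
  rw [← e0, ← ef, ← eg, ← eh]
  simp only [LinearMap.convMul_apply, mulA, AlgHom.comp_apply, Bialgebra.comulAlgHom_apply]
  generalize Coalgebra.comul (R := k) a = t
  induction t using TensorProduct.induction_on with
  | zero => simp
  | add v w hv hw => simp only [map_add, hv, hw]; ring
  | tmul v w =>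
    simp [hP, hW, LinearMap.convOne_def]
    linear_combination (algebraMap k C (h v) * algebraMap k C (f w)) * hec +
      (algebraMap k C (h v) * algebraMap k C (g w)) * hed + (algebraMap k C (h v) * algebraMap k C (m w)) * hee

theorem map_algebraMap_mul {C : Type u} [CommRing C] [Algebra k C] (p : C →ₗ[k] k) (r : k) (x : C) :
    p (algebraMap k C r * x) = r * p x := by
  rw [← Algebra.smul_def, map_smul, smul_eq_mul]

/-- The commutator formula, for any test algebra. -/
theorem der_bracket_gen {C : Type u} [CommRing C] [Algebra k C] (c d : C) (hc : c * c = 0) (hd : d * d = 0)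
    (p : C →ₗ[k] k) (hp1 : p 1 = 0) (hpc : p c = 0) (hpd : p d = 0) (hpe : p (c * d) = 1)
    (x y z : LieS.Lie (sp k A) k (f₀ k)) (hz : z = LieBr26.br (f₀ k) (sp k A) x y) :
    der z.1 = der x.1 * der y.1 - der y.1 * der x.1 := by
  have h1 := congrArg (fun t => J C ≫ t)
    (LieBr26.commutator_P (f₀ k) (sp k A) (h := algebraMap k C) c d hc hd x y)
  simp only [commutatorElement_def, MonObj.comp_mul, GrpObj.comp_inv] at h1
  rw [← hz] at h1
  set X := J C ≫ LieBr26.P (f₀ k) (sp k A) _ c hc x
  set Y := J C ≫ LieBr26.P (f₀ k) (sp k A) _ d hd y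
  set Z := J C ≫ LieBr26.P (f₀ k) (sp k A) _ (c * d) (LieBr26.prod_sq hc) z with hZ
  have h2 : Z * (Y * X) = X * Y := by rw [← h1]; group
  refine WithConv.ext (LinearMap.ext fun a => ?_)
  have h3 := congrArg (fun t => p (algOf t a)) h2
  simp only [algOf_mul'] at h3
  have eX : algOf X = (dh c hc).comp (alg x.1) := algOf_P _ _ _
  have eY : algOf Y = (dh d hd).comp (alg y.1) := algOf_P _ _ _
  have eZ : algOf Z = (dh (c * d) (LieBr26.prod_sq hc)).comp (alg z.1) := algOf_P _ _ _
  rw [eX, eY, eZ] at h3
  have hX := dh_alg c hc x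
  have hY := dh_alg d hd y
  have hZ' := dh_alg (c * d) (LieBr26.prod_sq hc) z
  have hYX : ∀ a, mulA ((dh d hd).comp (alg y.1)) ((dh c hc).comp (alg x.1)) a =
      algebraMap k C (Coalgebra.counit (R := k) a) + algebraMap k C (der x.1 a) * c + algebraMap k C (der y.1 a) * d +
        algebraMap k C ((der y.1 * der x.1) a) * (c * d) := fun a => by
    rw [mulA_two d c _ _ (der y.1) (der x.1) hY hX a]; ring
  rw [mulA_two c d _ _ (der x.1) (der y.1) hX hY a,
    mulA_three c d (c * d) (by linear_combination d * hc) (by linear_combination c * hd)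
      (by linear_combination d * d * hc) _ _ (der z.1) (der x.1) (der y.1) (der y.1 * der x.1) hZ' hYX a] at h3
  simp only [map_add, map_algebraMap_mul, hpc, hpd, hpe, mul_zero, _root_.mul_one] at h3
  rw [show algebraMap k C (Coalgebra.counit (R := k) a) = algebraMap k C (Coalgebra.counit (R := k) a) * 1 from
    (_root_.mul_one _).symm, map_algebraMap_mul, hp1, mul_zero, zero_add, zero_add] at h3
  show der z.1 a = (der x.1 * der y.1) a - (der y.1 * der x.1) a
  have h4 : der z.1 a + (der y.1 * der x.1) a = (der x.1 * der y.1) a := by simpa using h3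
  linear_combination h4

/-- The bracket is the commutator of derivations. -/
theorem der_bracket (x y z : LieS.Lie (sp k A) k (f₀ k)) (h : LieS.IsBracket (sp k A) k (f₀ k) x y z) :
    der z.1 = der x.1 * der y.1 - der y.1 * der x.1 :=
  der_bracket_gen (e₁ k) (e₂ k) e₁_sq e₂_sq (coef k) (by simp [coef, Algebra.TensorProduct.one_def])
    (by simp [coef]) (by simp [coef]) (by simp [coef, Algebra.TensorProduct.tmul_mul_tmul]) x y z (eq_br x y z h)

section Diag

variable {N : Type} [AddCommGroup N] (u : sp k (MonoidAlgebra k (Multiplicative N)) ⟶ sp k A) [IsMonHom u]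

/-- The algebra map of a homomorphism of affine groups is compatible with the coalgebra structures. -/
theorem compat : Compat (algOf u) := by
  have hm : (Bialgebra.comulAlgHom k (MonoidAlgebra k (Multiplicative N))).comp (algOf u) =
      (Algebra.TensorProduct.map (algOf u) (algOf u)).comp (Bialgebra.comulAlgHom k A) := by
    apply pt_injective
    rw [CoactBr.pt_comp, pt_algOf, ← pt_includeLeft_mul_includeRight, MonObj.mul_comp]
    conv_lhs => rw [← pt_algOf u, ← CoactBr.pt_comp, ← CoactBr.pt_comp, pt_mul_pt]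
    congr 2
    refine Algebra.TensorProduct.ext ?_ ?_ <;> ext x <;> simp
  have he : (Bialgebra.counitAlgHom k (MonoidAlgebra k (Multiplicative N))).comp (algOf u) =
      Bialgebra.counitAlgHom k A := by
    have hid : ∀ {B : Type u} [CommRing B] [Bialgebra k B],
        (1 : sp k k ⟶ sp k B) = pt (Bialgebra.counitAlgHom k B) := fun {B} _ _ => by
      rw [one_eq_pt]; congr 1
    apply pt_injective
    rw [CoactBr.pt_comp, pt_algOf, ← hid, ← hid, MonObj.one_comp]
  exact ⟨fun a => DFunLike.congr_fun hm a, fun a => DFunLike.congr_fun he a⟩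

/-- The infinitesimal point of an additive character. -/
def infAlg (c : N →+ k) : MonoidAlgebra k (Multiplicative N) →ₐ[k] DualNumber k :=
  MonoidAlgebra.lift k (DualNumber k) (Multiplicative N)
    { toFun := fun n => TrivSqZeroExt.inl 1 + TrivSqZeroExt.inr (c n.toAdd)
      map_one' := by simp
      map_mul' := fun m n => by
        refine TrivSqZeroExt.ext ?_ ?_ <;> simp [add_comm] }

theorem dh_infAlg (c : N →+ k) : (dh (0 : k) (mul_zero _)).comp (infAlg c) =
    (Algebra.ofId k k).comp (Bialgebra.counitAlgHom k (MonoidAlgebra k (Multiplicative N))) :=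
  MonoidAlgebra.algHom_ext (fun n => by simp [infAlg, dh_apply]) (Subsingleton.elim _ _)

theorem dmap_infPt_gen {C : Type u} [CommRing C] [Algebra k C] (c : N →+ k) (e : C) (he : e * e = 0)
    (hc : (dh e he).comp (infAlg c) = (Algebra.ofId k C).comp (Bialgebra.counitAlgHom k (MonoidAlgebra k (Multiplicative N)))) :
    LieBr26.dmap (f₀ k) (algebraMap k C) e he ≫ (I k).inv ≫
      pt (R := k) (B := MonoidAlgebra k (Multiplicative N)) (K := DualNumber k) (infAlg c) ≫ u = 1 := by
  rw [← cancel_epi (J (k := k) C), MonObj.comp_one, reassoc_of% J_dmap, Iso.hom_inv_id_assoc, ← Category.assoc,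
    ← CoactBr.pt_comp, hc, ← one_eq_pt, MonObj.one_comp]

theorem zeroSec_of_dmap (C : Type u) [CommRing C] [Algebra k C] [IsIso (CommRingCat.ofHom (algebraMap k C))]
    (y : LieS.dpt k (f₀ k) ⟶ sp k A) (hy : LieBr26.dmap (f₀ k) (algebraMap k C) (0 : C) (mul_zero _) ≫ y = 1) :
    LieS.zeroSec k (f₀ k) ≫ y = 1 :=
  zeroSec_comp_eq_one (f₀ k) (algebraMap k C) y hy

theorem zeroSec_infPt_gen (C : Type u) [CommRing C] [Algebra k C] [IsIso (CommRingCat.ofHom (algebraMap k C))] (c : N →+ k)
    (h : (dh (0 : C) (mul_zero _)).comp (infAlg c) = (Algebra.ofId k C).comp (Bialgebra.counitAlgHom k (MonoidAlgebra k (Multiplicative N)))) :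
    LieS.zeroSec k (f₀ k) ≫ (I k).inv ≫
      pt (R := k) (B := MonoidAlgebra k (Multiplicative N)) (K := DualNumber k) (infAlg c) ≫ u = 1 :=
  zeroSec_of_dmap C _ (dmap_infPt_gen u c (0 : C) (mul_zero _) h)

theorem zeroSec_infPt (c : N →+ k) : LieS.zeroSec k (f₀ k) ≫ (I k).inv ≫
      pt (R := k) (B := MonoidAlgebra k (Multiplicative N)) (K := DualNumber k) (infAlg c) ≫ u = 1 := by
  haveI : IsIso (CommRingCat.ofHom (algebraMap k k)) :=
    (ConcreteCategory.isIso_iff_bijective _).2 Function.bijective_id
  exact zeroSec_infPt_gen u k c (dh_infAlg c)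

/-- The same as a point of the Lie algebra. -/
def infPt (c : N →+ k) : LieS.Lie (sp k A) k (f₀ k) :=
  ⟨(I k).inv ≫ pt (R := k) (B := MonoidAlgebra k (Multiplicative N)) (K := DualNumber k) (infAlg c) ≫ u, (LieS.mem_Lie_iff _ _ _ _).2 (zeroSec_infPt u c)⟩

theorem algOf_iso {K : Type u} [CommRing K] [Algebra k K] {X : Over (Spec (CommRingCat.of k))} (i : sp k K ≅ X)
    (y : sp k K ⟶ sp k A) : algOf (i.hom ≫ i.inv ≫ y) = algOf y :=
  congrArg algOf (Iso.hom_inv_id_assoc i y)

theorem alg_def (x : LieS.dpt k (f₀ k) ⟶ sp k A) : alg x = algOf ((I k).hom ≫ x) := rfl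

theorem alg_inv (y : sp k (DualNumber k) ⟶ sp k A) : alg ((I k).inv ≫ y) = algOf y :=
  (alg_def _).trans (algOf_iso (I k) y)

theorem infPt_val (c : N →+ k) : (infPt u c).1 = (I k).inv ≫
    pt (R := k) (B := MonoidAlgebra k (Multiplicative N)) (K := DualNumber k) (infAlg c) ≫ u := rfl

theorem snd_infAlg (c : N →+ k) (z : MonoidAlgebra k (Multiplicative N)) :
    TrivSqZeroExt.sndHom k k (infAlg c z) = pair (fun n => c n.toAdd) z := by
  induction z using MonoidAlgebra.induction_linear with
  | zero => simp
  | add x y hx hy => simp only [map_add, hx, hy]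
  | single n r => simp [infAlg, MonoidAlgebra.lift_single]

theorem der_infPt (c : N →+ k) : der (infPt u c).1 = hat (algOf u) (fun n => c n.toAdd) := by
  refine WithConv.ext (LinearMap.ext fun a => ?_)
  rw [der, infPt_val, alg_inv, algOf_pt_comp]
  exact snd_infAlg c (algOf u a)

/-- The coefficient at `m` of an element of `k[ε] ⊗ k[N]`. -/
def coeffAt [DecidableEq (Multiplicative N)] (m : Multiplicative N) :
    DualNumber k ⊗[k] MonoidAlgebra k (Multiplicative N) →ₗ[k] DualNumber k :=
  LinearMap.mul' k (DualNumber k) ∘ₗ TensorProduct.map LinearMap.id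
    (Algebra.linearMap k (DualNumber k) ∘ₗ pair (Pi.single m 1))

theorem coeffAt_ext [DecidableEq (Multiplicative N)] {t t' : DualNumber k ⊗[k] MonoidAlgebra k (Multiplicative N)}
    (h : ∀ m, coeffAt m t = coeffAt m t') : t = t' := by
  let σ := MonoidAlgebra.scalarTensorEquiv k (DualNumber k) (M := Multiplicative N)
  have key : ∀ m z, (σ z).coeff m = coeffAt m z := by
    intro m z
    induction z using TensorProduct.induction_on with
    | zero => simp
    | add x y hx hy => simp only [map_add, MonoidAlgebra.coeff_add, Finsupp.add_apply, hx, hy]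
    | tmul x y =>
      induction y using MonoidAlgebra.induction_linear with
      | zero => simp
      | add p q hp hq => simp only [TensorProduct.tmul_add, map_add, MonoidAlgebra.coeff_add, Finsupp.add_apply, hp, hq]
      | single n r =>
        by_cases hn : n = m
        · subst hn; simp [σ, coeffAt, Algebra.smul_def, mul_comm]
        · simp [σ, coeffAt, hn, Pi.single_eq_of_ne hn]
  exact σ.injective (MonoidAlgebra.ext (Finsupp.ext fun m => by rw [key, key, h]))

theorem coeffAt_tmul [DecidableEq (Multiplicative N)] (m : Multiplicative N) (v : DualNumber k)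
    (q : MonoidAlgebra k (Multiplicative N)) : coeffAt m (v ⊗ₜ q) = pair (Pi.single m 1) q • v := by
  simp [coeffAt, Algebra.smul_def, mul_comm]

theorem coeffAt_mulA_left [DecidableEq (Multiplicative N)] (m : Multiplicative N) (p : DualNumber k →ₗ[k] k)
    (X : A →ₐ[k] DualNumber k) (φ : A →ₐ[k] MonoidAlgebra k (Multiplicative N)) (a : A) :
    p (coeffAt m (mulA (K := DualNumber k ⊗[k] MonoidAlgebra k (Multiplicative N))
      (Algebra.TensorProduct.includeLeft.comp X) (Algebra.TensorProduct.includeRight.comp φ) a)) =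
    (toConv (p ∘ₗ X.toLinearMap) * hat φ (Pi.single m 1)) a := by
  rw [LinearMap.convMul_apply, mulA, AlgHom.comp_apply, Bialgebra.comulAlgHom_apply]
  generalize Coalgebra.comul (R := k) a = t
  induction t using TensorProduct.induction_on with
  | zero => simp
  | add v w hv hw => simp only [map_add, hv, hw]
  | tmul v w => simp [hat, Algebra.TensorProduct.tmul_mul_tmul, coeffAt_tmul, mul_comm]

theorem coeffAt_mulA_right [DecidableEq (Multiplicative N)] (m : Multiplicative N) (p : DualNumber k →ₗ[k] k)
    (X : A →ₐ[k] DualNumber k) (φ : A →ₐ[k] MonoidAlgebra k (Multiplicative N)) (a : A) :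
    p (coeffAt m (mulA (K := DualNumber k ⊗[k] MonoidAlgebra k (Multiplicative N))
      (Algebra.TensorProduct.includeRight.comp φ) (Algebra.TensorProduct.includeLeft.comp X) a)) =
    (hat φ (Pi.single m 1) * toConv (p ∘ₗ X.toLinearMap)) a := by
  rw [LinearMap.convMul_apply, mulA, AlgHom.comp_apply, Bialgebra.comulAlgHom_apply]
  generalize Coalgebra.comul (R := k) a = t
  induction t using TensorProduct.induction_on with
  | zero => simp
  | add v w hv hw => simp only [map_add, hv, hw]
  | tmul v w => simp [hat, Algebra.TensorProduct.tmul_mul_tmul, coeffAt_tmul]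

/-- Commuting with all indicator functions means commuting with the diagonalisable group. -/
theorem commute_universal [DecidableEq (Multiplicative N)] (x : LieS.Lie (sp k A) k (f₀ k))
    (hx : ∀ m, hat (algOf u) (Pi.single m 1) * der x.1 = der x.1 * hat (algOf u) (Pi.single m 1)) :
    (pt (R := k) (B := DualNumber k) (K := DualNumber k ⊗[k] MonoidAlgebra k (Multiplicative N)) Algebra.TensorProduct.includeLeft ≫
        (I k).hom ≫ x.1) * (pt (R := k) (B := MonoidAlgebra k (Multiplicative N)) (K := DualNumber k ⊗[k] MonoidAlgebra k (Multiplicative N)) Algebra.TensorProduct.includeRight ≫ u) =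
      (pt (R := k) (B := MonoidAlgebra k (Multiplicative N)) (K := DualNumber k ⊗[k] MonoidAlgebra k (Multiplicative N)) Algebra.TensorProduct.includeRight ≫ u) *
        (pt (R := k) (B := DualNumber k) (K := DualNumber k ⊗[k] MonoidAlgebra k (Multiplicative N)) Algebra.TensorProduct.includeLeft ≫
          (I k).hom ≫ x.1) := by
  rw [← pt_algOf (_ * _)]
  conv_rhs => rw [← pt_algOf (_ * _)]
  congr 1
  rw [algOf_mul, algOf_mul, algOf_pt_comp, algOf_pt_comp]
  refine AlgHom.ext fun a => coeffAt_ext fun m => ?_
  set φ := algOf u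
  set X := alg x.1
  show coeffAt m (mulA (K := DualNumber k ⊗[k] MonoidAlgebra k (Multiplicative N)) (Algebra.TensorProduct.includeLeft.comp X)
      (Algebra.TensorProduct.includeRight.comp φ) a) =
    coeffAt m (mulA (K := DualNumber k ⊗[k] MonoidAlgebra k (Multiplicative N)) (Algebra.TensorProduct.includeRight.comp φ)
      (Algebra.TensorProduct.includeLeft.comp X) a)
  refine TrivSqZeroExt.ext ?_ ?_
  · refine (coeffAt_mulA_left m (TrivSqZeroExt.fstHom k k k).toLinearMap X φ a).trans
      (Eq.trans ?_ (coeffAt_mulA_right m (TrivSqZeroExt.fstHom k k k).toLinearMap X φ a).symm)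
    show (cf (TrivSqZeroExt.fstHom k k k).toLinearMap (alg x.1) * _) a = (_ * cf (TrivSqZeroExt.fstHom k k k).toLinearMap (alg x.1)) a
    rw [cf_fst x, _root_.one_mul, _root_.mul_one]
  · refine (coeffAt_mulA_left m (TrivSqZeroExt.sndHom k k) X φ a).trans
      (Eq.trans ?_ (coeffAt_mulA_right m (TrivSqZeroExt.sndHom k k) X φ a).symm)
    show (der x.1 * _) a = (_ * der x.1) a
    rw [hx m]

/-- An element of the Lie algebra killed by a power of the bracket with a generator commutes with the subgroup. -/
theorem commute_of_nilpotent [DecidableEq (Multiplicative N)] (c : N →+ k) (hc : Function.Injective c) (x : LieS.Lie (sp k A) k (f₀ k))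
    {n : ℕ} (hn : (adD (der (infPt u c).1))^[n] (der x.1) = 0)
    (X' : Over (Spec (CommRingCat.of k))) (y : X' ⟶ LieS.dpt k (f₀ k))
    (h : X' ⟶ sp k (MonoidAlgebra k (Multiplicative N))) : (y ≫ x.1) * (h ≫ u) = (h ≫ u) * (y ≫ x.1) := by
  rw [der_infPt] at hn
  have hcomm := commute_of_adD_nilpotent (compat u) (c := fun n : Multiplicative N => c n.toAdd)
    (hc.comp Multiplicative.toAdd.injective) hn
  have huniv := commute_universal u x hcomm
  haveI := Misc15.AffinePoints.isIso_Q (R := k) (DualNumber k) (MonoidAlgebra k (Multiplicative N))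
  let w : X' ⟶ sp k (DualNumber k ⊗[k] MonoidAlgebra k (Multiplicative N)) :=
    lift (y ≫ (I k).inv) h ≫ inv (Misc15.AffinePoints.Q (R := k) (DualNumber k) (MonoidAlgebra k (Multiplicative N)))
  have hw : w ≫ Misc15.AffinePoints.Q (R := k) (DualNumber k) (MonoidAlgebra k (Multiplicative N)) =
      lift (y ≫ (I k).inv) h := by
    rw [show w = _ from rfl, Category.assoc, IsIso.inv_hom_id, Category.comp_id]
  have h1 : w ≫ pt (R := k) (B := DualNumber k) (K := DualNumber k ⊗[k] MonoidAlgebra k (Multiplicative N))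
      Algebra.TensorProduct.includeLeft = y ≫ (I k).inv := by
    rw [show pt (R := k) (B := DualNumber k) (K := DualNumber k ⊗[k] MonoidAlgebra k (Multiplicative N))
      Algebra.TensorProduct.includeLeft = Misc15.AffinePoints.Q (R := k) (DualNumber k) (MonoidAlgebra k (Multiplicative N)) ≫
        fst _ _ from (lift_fst _ _).symm, reassoc_of% hw, lift_fst]
  have h2 : w ≫ pt (R := k) (B := MonoidAlgebra k (Multiplicative N)) (K := DualNumber k ⊗[k] MonoidAlgebra k (Multiplicative N))
      Algebra.TensorProduct.includeRight = h := by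
    rw [show pt (R := k) (B := MonoidAlgebra k (Multiplicative N)) (K := DualNumber k ⊗[k] MonoidAlgebra k (Multiplicative N))
      Algebra.TensorProduct.includeRight = Misc15.AffinePoints.Q (R := k) (DualNumber k) (MonoidAlgebra k (Multiplicative N)) ≫
        snd _ _ from (lift_snd _ _).symm, reassoc_of% hw, lift_snd]
  have := congrArg (fun t => w ≫ t) huniv
  simp only [MonObj.comp_mul] at this
  rw [reassoc_of% h1, reassoc_of% h2, Iso.inv_hom_id_assoc] at this
  exact this

end Diag

end Groth.Agent.LieNoTorus26
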