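import Mathlib.RingTheory.Bialgebra.MonoidAlgebra
import Mathlib.RingTheory.Coalgebra.Convolution
import Mathlib.RingTheory.TensorProduct.MonoidAlgebra

/-!
# Nilpotent adjoint action of an infinitesimal generator of a diagonalisable subgroup

For an algebra map `φ : A → k[N]` compatible with comultiplication and counit, the functions on `N` map to the
convolution algebra of `A`.  If `c : N → k` is injective and an element `X` is annihilated by a power of the
commutator with the image of `c`, then `X` commutes with the images of all indicator functions.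
-/

set_option autoImplicit false
set_option linter.unusedSectionVars false

universe u

open WithConv TensorProduct
open Coalgebra (comul counit)

noncomputable section

namespace Groth.Agent.LieNoTorus26

variable {k A : Type u} [Field k] [CommRing A] [Bialgebra k A] {N : Type*} [CommGroup N]

/-- A function on `N` as a functional on the group algebra. -/
def pair (g : N → k) : MonoidAlgebra k N →ₗ[k] k :=
  Finsupp.linearCombination k g ∘ₗ (MonoidAlgebra.coeffLinearEquiv k).toLinearMap

@[simp] theorem pair_single (g : N → k) (n : N) (r : k) : pair g (MonoidAlgebra.single n r) = r * g n := by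
  simp [pair, MonoidAlgebra.coeffLinearEquiv, Finsupp.linearCombination_single]

/-- Compatibility of an algebra map with comultiplication and counit. -/
structure Compat (φ : A →ₐ[k] MonoidAlgebra k N) : Prop where
  mul : ∀ a, comul (R := k) (φ a) = TensorProduct.map φ.toLinearMap φ.toLinearMap (comul (R := k) a)
  one : ∀ a, counit (R := k) (φ a) = counit (R := k) a

variable (φ : A →ₐ[k] MonoidAlgebra k N)

/-- A function on `N` in the convolution algebra of `A`. -/
def hat (g : N → k) : WithConv (A →ₗ[k] k) := toConv (pair g ∘ₗ φ.toLinearMap)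

theorem hat_apply (g : N → k) (a : A) : hat φ g a = pair g (φ a) := rfl

variable {φ}

theorem hat_mul (hφ : Compat φ) (g h : N → k) : hat φ g * hat φ h = hat φ (fun n => g n * h n) := by
  refine WithConv.ext (LinearMap.ext fun a => ?_)
  show (hat φ g * hat φ h) a = hat φ (fun n => g n * h n) a
  rw [LinearMap.convMul_apply, hat_apply]
  have h1 : ∀ z : MonoidAlgebra k N, LinearMap.mul' k k (TensorProduct.map (pair g) (pair h) (comul (R := k) z)) =
      pair (fun n => g n * h n) z := by
    intro z
    induction z using MonoidAlgebra.induction_linear with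
    | zero => simp
    | add x y hx hy => simp only [map_add, hx, hy]
    | single n r => simp [MonoidAlgebra.comul_single]; ring
  rw [← h1, hφ.mul a, ← LinearMap.comp_apply (TensorProduct.map (pair g) (pair h)), ← TensorProduct.map_comp]
  rfl

theorem hat_one (hφ : Compat φ) : hat φ (fun _ : N => (1 : k)) = 1 := by
  refine WithConv.ext (LinearMap.ext fun a => ?_)
  show hat φ (fun _ : N => (1 : k)) a = (1 : WithConv (A →ₗ[k] k)) a
  rw [LinearMap.convOne_apply, hat_apply, ← hφ.one a, Algebra.algebraMap_self, RingHom.id_apply]
  generalize φ a = z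
  induction z using MonoidAlgebra.induction_linear with
  | zero => simp
  | add x y hx hy => simp only [map_add, hx, hy]
  | single n r => simp [MonoidAlgebra.counit_single]

/-- A product with the image of a function is a finite combination of products with indicator functions. -/
theorem exists_sum_right [DecidableEq N] (f : WithConv (A →ₗ[k] k)) (a : A) :
    ∃ S : Finset N, ∀ g : N → k, (f * hat φ g) a = ∑ b ∈ S, g b * (f * hat φ (Pi.single b 1)) a := by
  simp only [LinearMap.convMul_apply, hat]
  generalize comul (R := k) a = t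
  induction t using TensorProduct.induction_on with
  | zero => exact ⟨∅, fun g => by simp⟩
  | add x y hx hy =>
    obtain ⟨S, hS⟩ := hx
    obtain ⟨T, hT⟩ := hy
    have extend : ∀ (S U : Finset N) (z : A ⊗[k] A), (∀ g : N → k, LinearMap.mul' k k
          (TensorProduct.map f.ofConv (pair g ∘ₗ φ.toLinearMap) z) = ∑ b ∈ S, g b *
            LinearMap.mul' k k (TensorProduct.map f.ofConv (pair (Pi.single b 1) ∘ₗ φ.toLinearMap) z)) → S ⊆ U →
        ∀ g : N → k, LinearMap.mul' k k (TensorProduct.map f.ofConv (pair g ∘ₗ φ.toLinearMap) z) = ∑ b ∈ U, g b *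
            LinearMap.mul' k k (TensorProduct.map f.ofConv (pair (Pi.single b 1) ∘ₗ φ.toLinearMap) z) := by
      intro S U z hz hSU g
      rw [hz g]
      refine Finset.sum_subset hSU fun b _ hb => ?_
      have : LinearMap.mul' k k (TensorProduct.map f.ofConv (pair (Pi.single b 1) ∘ₗ φ.toLinearMap) z) = 0 := by
        rw [hz]
        refine Finset.sum_eq_zero fun c hc => ?_
        rw [Pi.single_eq_of_ne (ne_of_mem_of_not_mem hc hb), zero_mul]
      rw [this, mul_zero]
    refine ⟨S ∪ T, fun g => ?_⟩
    simp only [map_add, mul_add, Finset.sum_add_distrib]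
    rw [extend S (S ∪ T) x hS Finset.subset_union_left g, extend T (S ∪ T) y hT Finset.subset_union_right g]
  | tmul x y =>
    refine ⟨(φ y).coeff.support, fun g => ?_⟩
    have h2 : ∀ g : N → k, pair g (φ y) = ∑ b ∈ (φ y).coeff.support, (φ y).coeff b * g b := fun g => by
      rw [pair, LinearMap.comp_apply, Finsupp.linearCombination_apply]
      rfl
    simp only [TensorProduct.map_tmul, LinearMap.mul'_apply, LinearMap.comp_apply, AlgHom.toLinearMap_apply, h2]
    rw [Finset.mul_sum]
    refine Finset.sum_congr rfl fun b hb => ?_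
    rw [Finset.sum_eq_single b (fun c _ hc => by rw [Pi.single_eq_of_ne hc, mul_zero]) (fun h => absurd hb h),
      Pi.single_eq_same]
    ring

/-- The same on the left. -/
theorem exists_sum_left [DecidableEq N] (f : WithConv (A →ₗ[k] k)) (a : A) :
    ∃ S : Finset N, ∀ g : N → k, (hat φ g * f) a = ∑ b ∈ S, g b * (hat φ (Pi.single b 1) * f) a := by
  simp only [LinearMap.convMul_apply, hat]
  generalize comul (R := k) a = t
  induction t using TensorProduct.induction_on with
  | zero => exact ⟨∅, fun g => by simp⟩
  | add x y hx hy =>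
    obtain ⟨S, hS⟩ := hx
    obtain ⟨T, hT⟩ := hy
    have extend : ∀ (S U : Finset N) (z : A ⊗[k] A), (∀ g : N → k, LinearMap.mul' k k
          (TensorProduct.map (pair g ∘ₗ φ.toLinearMap) f.ofConv z) = ∑ b ∈ S, g b *
            LinearMap.mul' k k (TensorProduct.map (pair (Pi.single b 1) ∘ₗ φ.toLinearMap) f.ofConv z)) → S ⊆ U →
        ∀ g : N → k, LinearMap.mul' k k (TensorProduct.map (pair g ∘ₗ φ.toLinearMap) f.ofConv z) = ∑ b ∈ U, g b *
            LinearMap.mul' k k (TensorProduct.map (pair (Pi.single b 1) ∘ₗ φ.toLinearMap) f.ofConv z) := by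
      intro S U z hz hSU g
      rw [hz g]
      refine Finset.sum_subset hSU fun b _ hb => ?_
      have : LinearMap.mul' k k (TensorProduct.map (pair (Pi.single b 1) ∘ₗ φ.toLinearMap) f.ofConv z) = 0 := by
        rw [hz]
        refine Finset.sum_eq_zero fun c hc => ?_
        rw [Pi.single_eq_of_ne (ne_of_mem_of_not_mem hc hb), zero_mul]
      rw [this, mul_zero]
    refine ⟨S ∪ T, fun g => ?_⟩
    simp only [map_add, mul_add, Finset.sum_add_distrib]
    rw [extend S (S ∪ T) x hS Finset.subset_union_left g, extend T (S ∪ T) y hT Finset.subset_union_right g]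
  | tmul x y =>
    refine ⟨(φ x).coeff.support, fun g => ?_⟩
    have h2 : ∀ g : N → k, pair g (φ x) = ∑ b ∈ (φ x).coeff.support, (φ x).coeff b * g b := fun g => by
      rw [pair, LinearMap.comp_apply, Finsupp.linearCombination_apply]
      rfl
    simp only [TensorProduct.map_tmul, LinearMap.mul'_apply, LinearMap.comp_apply, AlgHom.toLinearMap_apply, h2]
    rw [Finset.sum_mul]
    refine Finset.sum_congr rfl fun b hb => ?_
    rw [Finset.sum_eq_single b (fun c _ hc => by rw [Pi.single_eq_of_ne hc, mul_zero]) (fun h => absurd hb h),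
      Pi.single_eq_same]
    ring

theorem hat_single_mul [DecidableEq N] (hφ : Compat φ) (g : N → k) (m : N) :
    hat φ (Pi.single m 1) * hat φ g = g m • hat φ (Pi.single m 1) := by
  refine (hat_mul hφ _ _).trans (WithConv.ext (LinearMap.ext fun a => ?_))
  show pair _ (φ a) = g m • pair _ (φ a)
  generalize φ a = z
  induction z using MonoidAlgebra.induction_linear with
  | zero => simp
  | add x y hx hy => simp only [map_add, hx, hy, smul_add]
  | single n r =>
    by_cases h : n = m
    · subst h; simp [mul_comm]
    · simp [Pi.single_eq_of_ne h]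

theorem mul_hat_single [DecidableEq N] (hφ : Compat φ) (g : N → k) (m : N) :
    hat φ g * hat φ (Pi.single m 1) = g m • hat φ (Pi.single m 1) := by
  rw [← hat_single_mul hφ g m, hat_mul hφ, hat_mul hφ]
  simp only [mul_comm]

/-- The commutator with an element. -/
def adD {R : Type*} [Ring R] (D : R) (Y : R) : R := D * Y - Y * D

theorem sandwich [DecidableEq N] (hφ : Compat φ) (c : N → k) (a b : N) : ∀ (n : ℕ) (X : WithConv (A →ₗ[k] k)),
    hat φ (Pi.single a 1) * (adD (hat φ c))^[n] X * hat φ (Pi.single b 1) =
      (c a - c b) ^ n • (hat φ (Pi.single a 1) * X * hat φ (Pi.single b 1)) := by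
  intro n
  induction n with
  | zero => intro X; simp
  | succ n ih =>
    intro X
    rw [Function.iterate_succ_apply, ih]
    have h : hat φ (Pi.single a 1) * adD (hat φ c) X * hat φ (Pi.single b 1) =
        (c a - c b) • (hat φ (Pi.single a 1) * X * hat φ (Pi.single b 1)) := by
      unfold adD
      rw [mul_sub, sub_mul, ← mul_assoc, hat_single_mul hφ, ← mul_assoc, mul_assoc _ (hat φ c),
        mul_hat_single hφ, smul_mul_assoc, smul_mul_assoc, mul_smul_comm, sub_smul]
    rw [h, smul_smul, pow_succ]

/-- The main computation. -/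
theorem commute_of_adD_nilpotent [DecidableEq N] (hφ : Compat φ) {c : N → k} (hc : Function.Injective c) {n : ℕ}
    {X : WithConv (A →ₗ[k] k)} (hX : (adD (hat φ c))^[n] X = 0) (m : N) :
    hat φ (Pi.single m 1) * X = X * hat φ (Pi.single m 1) := by
  have h0 : ∀ a b : N, a ≠ b → hat φ (Pi.single a 1) * X * hat φ (Pi.single b 1) = 0 := fun a b hab => by
    have := sandwich hφ c a b n X
    rw [hX, mul_zero, zero_mul] at this
    exact (smul_eq_zero.1 this.symm).resolve_left (pow_ne_zero _ (sub_ne_zero.2 fun h => hab (hc h)))
  have hl : hat φ (Pi.single m 1) * X = hat φ (Pi.single m 1) * X * hat φ (Pi.single m 1) := by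
    refine WithConv.ext (LinearMap.ext fun a => ?_)
    show (hat φ (Pi.single m 1) * X) a = (hat φ (Pi.single m 1) * X * hat φ (Pi.single m 1)) a
    obtain ⟨S, hS⟩ := exists_sum_right (φ := φ) (hat φ (Pi.single m 1) * X) a
    calc (hat φ (Pi.single m 1) * X) a = (hat φ (Pi.single m 1) * X * hat φ (fun _ => (1 : k))) a := by
          rw [hat_one hφ, mul_one]
      _ = ∑ b ∈ S, (1 : k) * (hat φ (Pi.single m 1) * X * hat φ (Pi.single b 1)) a := hS _
      _ = ∑ b ∈ S, (Pi.single m 1 : N → k) b * (hat φ (Pi.single m 1) * X * hat φ (Pi.single b 1)) a := by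
          refine Finset.sum_congr rfl fun b _ => ?_
          by_cases hb : b = m
          · subst hb; simp
          · simp [h0 m b (Ne.symm hb)]
      _ = (hat φ (Pi.single m 1) * X * hat φ (Pi.single m 1)) a := (hS _).symm
  have hr : X * hat φ (Pi.single m 1) = hat φ (Pi.single m 1) * X * hat φ (Pi.single m 1) := by
    rw [mul_assoc]
    refine WithConv.ext (LinearMap.ext fun a => ?_)
    show (X * hat φ (Pi.single m 1)) a = (hat φ (Pi.single m 1) * (X * hat φ (Pi.single m 1))) a
    obtain ⟨S, hS⟩ := exists_sum_left (φ := φ) (X * hat φ (Pi.single m 1)) a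
    calc (X * hat φ (Pi.single m 1)) a = (hat φ (fun _ => (1 : k)) * (X * hat φ (Pi.single m 1))) a := by
          rw [hat_one hφ, one_mul]
      _ = ∑ b ∈ S, (1 : k) * (hat φ (Pi.single b 1) * (X * hat φ (Pi.single m 1))) a := hS _
      _ = ∑ b ∈ S, (Pi.single m 1 : N → k) b * (hat φ (Pi.single b 1) * (X * hat φ (Pi.single m 1))) a := by
          refine Finset.sum_congr rfl fun b _ => ?_
          by_cases hb : b = m
          · subst hb; simp
          · rw [← mul_assoc (hat φ (Pi.single b 1)), h0 b m hb]; simp [hb]
      _ = _ := (hS _).symm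
  rw [hl, hr]

end Groth.Agent.LieNoTorus26
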